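import Mathlib
import Groth.Prelude.Def_DerSch
import Groth.Agent.Lib.Helper5.TensorAmp.TensorAmpE
import Groth.Agent.Lib.Helper5.KSix.FlatAmpStalk
import Groth.Agent.Lib.Helper5.StalkTen.KFlatPull
import Groth.Agent.Lib.Helper5.Stalk.Lpull

/-!
# Stalkwise tor amplitude of `f^*P ⊗ F` relative to a composite (helper5)
-/
set_option autoImplicit false
set_option linter.unusedSectionVars false
set_option linter.unusedVariables false
set_option linter.style.haveILetI false
universe u
open CategoryTheory CategoryTheory.Limits MonoidalCategory AlgebraicGeometry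
attribute [local instance] HasDerivedCategory.standard

namespace Groth.Agent.Lib.Helper5.DerSchTor

open Groth.Agent.Lib.Helper5.StalkTot Groth.Agent.Lib.Helper5.StalkAdj
open Groth.Agent.Helper5.TorAmp Groth.Agent.Lib.Helper5.TensorAmp
open Groth.Agent.Lib.Helper5.KSixFlat Groth.Agent.Lib.Helper5.KFlatPull
open Groth.Agent.Lib.Helper5.KFlatStalk Groth.Agent.Lib.Helper5.LpullLib
open DTen

variable {X Y Z : Scheme.{u}}

/-- the complex of stalks over the base, as the restriction of the complex of stalks -/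
noncomputable def stalkCxOverIso (h : X ⟶ Z) (x : X) (K : CochainComplex X.Modules ℤ) :
    (DerSch.stalkCxOver h x).obj K ≅ (resCx (h.stalkMap x).hom).obj (stalkCx X x K) :=
  HomologicalComplex.Hom.isoOfComponents
    (fun i => (ModuleCat.restrictScalars.{u} (h.stalkMap x).hom).mapIso
      ((stalkFunctorIso X x).app (K.X i)))
    (fun i j _ => by
      have h1 := (stalkFunctorIso X x).hom.naturality (K.d i j)
      have h2 := congrArg (fun t => (ModuleCat.restrictScalars.{u} (h.stalkMap x).hom).map t) h1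
      simp only [Functor.map_comp] at h2
      exact h2.symm)

theorem hasTorAmplitudeAt_iff (h : X ⟶ Z) (x : X) (K : CochainComplex X.Modules ℤ) (a b : ℤ) :
    DerSch.HasTorAmplitudeAt h a b K x ↔
      DRing.HasTorAmplitudeIn (Z.presheaf.stalk (h.base x)) a b
        (DRing.toD ((resCx (h.stalkMap x).hom).obj (stalkCx X x K))) :=
  ⟨fun hh => hasTorAmplitudeIn_of_iso (DerivedCategory.Q.mapIso (stalkCxOverIso h x K)) hh,
    fun hh => hasTorAmplitudeIn_of_iso (DerivedCategory.Q.mapIso (stalkCxOverIso h x K)).symm hh⟩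

/-- D-isomorphic complexes have D-isomorphic restricted complexes of stalks -/
noncomputable def resStalkDIso (h : X ⟶ Z) (x : X) {H H' : CochainComplex X.Modules ℤ}
    (e : DCoh.toD X H ≅ DCoh.toD X H') :
    DRing.toD ((resCx (h.stalkMap x).hom).obj (stalkCx X x H)) ≅
      DRing.toD ((resCx (h.stalkMap x).hom).obj (stalkCx X x H')) :=
  ((resFactors (h.stalkMap x).hom).app (stalkCx X x H)).symm ≪≫
    (DRing.restrictD (h.stalkMap x).hom).mapIso (stalkDIso x e) ≪≫
    (resFactors (h.stalkMap x).hom).app (stalkCx X x H')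

theorem hasTorAmplitudeAt_of_iso (h : X ⟶ Z) (x : X) {H H' : CochainComplex X.Modules ℤ}
    (e : DCoh.toD X H ≅ DCoh.toD X H') (a b : ℤ) (hH : DerSch.HasTorAmplitudeAt h a b H x) :
    DerSch.HasTorAmplitudeAt h a b H' x := by
  rw [hasTorAmplitudeAt_iff] at hH ⊢
  exact hasTorAmplitudeIn_of_iso (resStalkDIso h x e) hH

/-- restriction along the stalk map of a composite -/
noncomputable def resCompIso (f : X ⟶ Y) (g : Y ⟶ Z) (x : X)
    (K : DRing.Cx (X.presheaf.stalk x)) :
    (resCx ((f ≫ g).stalkMap x).hom).obj K ≅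
      (resCx (g.stalkMap (f.base x)).hom).obj ((resCx (f.stalkMap x).hom).obj K) :=
  HomologicalComplex.Hom.isoOfComponents
    (fun i => (ModuleCat.restrictScalarsComp' (g.stalkMap (f.base x)).hom (f.stalkMap x).hom
        ((f ≫ g).stalkMap x).hom (by rw [Scheme.Hom.stalkMap_comp]; rfl)).app (K.X i))
    (fun i j _ => by
      exact ((ModuleCat.restrictScalarsComp' (g.stalkMap (f.base x)).hom (f.stalkMap x).hom
        ((f ≫ g).stalkMap x).hom (by rw [Scheme.Hom.stalkMap_comp]; rfl)).hom.naturality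
          (K.d i j)).symm)

/-- **stalkwise tor amplitude of `f^*P ⊗ F` relative to the composite** -/
theorem hasTorAmplitudeAt_pull_tensor (f : X ⟶ Y) (g : Y ⟶ Z) (x : X)
    (F : CochainComplex X.Modules ℤ) (a b : ℤ) (hF : DerSch.HasTorAmplitudeAt f a b F x)
    (P : CochainComplex Y.Modules ℤ) (hP : DCoh.IsKFlat P) (c d : ℤ)
    (hPG : DerSch.HasTorAmplitudeAt g c d P (f.base x)) :
    DerSch.HasTorAmplitudeAt (f ≫ g) (a + c) (b + d)
      ((DCoh.tensorCx.obj (((Scheme.Modules.pullback f).mapHomologicalComplex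
        (ComplexShape.up ℤ)).obj P)).obj F) x := by
  rw [hasTorAmplitudeAt_iff] at hF hPG ⊢
  have hK : DRing.IsKFlat (Y.presheaf.stalk (f.base x)) (stalkCx Y (f.base x) P) :=
    isKFlat_stalkCx P hP (f.base x)
  have hPv := torVanF_of_hasTorAmplitudeIn _ c d hPG
  have core := torVanF_ext_tensor (g.stalkMap (f.base x)).hom (f.stalkMap x).hom
    (stalkCx Y (f.base x) P) hK (stalkCx X x F) a b c d hPv hF
  let T := (DCoh.tensorCx.obj (((Scheme.Modules.pullback f).mapHomologicalComplex
        (ComplexShape.up ℤ)).obj P)).obj F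
  have e1 : stalkCx X x T ≅
      (extCx (f.stalkMap x).hom).obj (stalkCx Y (f.base x) P) ⊗ stalkCx X x F :=
    stalkTotIso X x _ F ≪≫ whiskerRightIso (stalkCxPullbackIso f P x) (stalkCx X x F)
  have e2 := resCompIso f g x (stalkCx X x T) ≪≫
    (resCx (g.stalkMap (f.base x)).hom).mapIso ((resCx (f.stalkMap x).hom).mapIso e1)
  rw [add_comm a c, add_comm b d]
  refine hasTorAmplitudeIn_of_iso (DerivedCategory.Q.mapIso e2).symm ?_
  exact hasTorAmplitudeIn_of_torVanF _ _ _ core

end Groth.Agent.Lib.Helper5.DerSchTor
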