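import Mathlib
import Groth.Agent.Lib.Helper5.DerSchTor.StalkOverA
import Groth.Agent.Lib.Helper5.Stalk.FlatFree
import Groth.Agent.Lib.Helper5.LTen.LTenAll

/-!
# Stalkwise tor amplitude of `f^*P` relative to a composite, and the derived versions (helper5)
-/
set_option autoImplicit false
set_option linter.unusedSectionVars false
set_option linter.unusedVariables false
set_option linter.style.haveILetI false
universe u
open CategoryTheory CategoryTheory.Limits MonoidalCategory AlgebraicGeometry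
attribute [local instance] HasDerivedCategory.standard

namespace Groth.Agent.Lib.Helper5.DerSchTor

open Groth.Agent.Lib.Helper5.StalkTot Groth.Agent.Lib.Helper5.StalkAdj
open Groth.Agent.Helper5.TorAmp Groth.Agent.Lib.Helper5.TensorAmp
open Groth.Agent.Lib.Helper5.KSixFlat Groth.Agent.Lib.Helper5.KFlatPull
open Groth.Agent.Lib.Helper5.KFlatStalk Groth.Agent.Lib.Helper5.LpullLib
open Groth.Agent.Lib.Helper5.KFlatSiteQ Groth.Agent.Lib.Helper5.LTenAll
open DTen

variable {X Y Z : Scheme.{u}}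

/-- the complex of stalks of the structure sheaf in degree `0` is the unit complex -/
noncomputable def stalkCxUnitIso (x : X) :
    stalkCx X x (DerSch.unitCx X) ≅ 𝟙_ (DRing.Cx (X.presheaf.stalk x)) :=
  (HomologicalComplex.singleMapHomologicalComplex (stalkSh X x) (ComplexShape.up ℤ) 0).app
      (Coh.structureModule X) ≪≫
    (HomologicalComplex.single _ (ComplexShape.up ℤ) 0).mapIso (stalkUnitIso X x).symm

/-- **stalkwise tor amplitude of `f^*P` relative to the composite** -/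
theorem hasTorAmplitudeAt_pull (f : X ⟶ Y) (g : Y ⟶ Z) (x : X) (a b : ℤ)
    (hF : DerSch.HasTorAmplitudeAt f a b (DerSch.unitCx X) x)
    (P : CochainComplex Y.Modules ℤ) (hP : DCoh.IsKFlat P) (c d : ℤ)
    (hPG : DerSch.HasTorAmplitudeAt g c d P (f.base x)) :
    DerSch.HasTorAmplitudeAt (f ≫ g) (c + a) (d + b)
      (((Scheme.Modules.pullback f).mapHomologicalComplex (ComplexShape.up ℤ)).obj P) x := by
  rw [hasTorAmplitudeAt_iff] at hF hPG ⊢
  have hK : DRing.IsKFlat (Y.presheaf.stalk (f.base x)) (stalkCx Y (f.base x) P) :=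
    isKFlat_stalkCx P hP (f.base x)
  have hPv := torVanF_of_hasTorAmplitudeIn _ c d hPG
  have hF' : DRing.HasTorAmplitudeIn (Y.presheaf.stalk (f.base x)) a b
      (DRing.toD ((resCx (f.stalkMap x).hom).obj (𝟙_ (DRing.Cx (X.presheaf.stalk x))))) :=
    hasTorAmplitudeIn_of_iso (DerivedCategory.Q.mapIso
      ((resCx (f.stalkMap x).hom).mapIso (stalkCxUnitIso x))) hF
  have core := torVanF_ext (g.stalkMap (f.base x)).hom (f.stalkMap x).hom
    (stalkCx Y (f.base x) P) hK a b c d hPv hF'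
  let T := ((Scheme.Modules.pullback f).mapHomologicalComplex (ComplexShape.up ℤ)).obj P
  have e2 := resCompIso f g x (stalkCx X x T) ≪≫
    (resCx (g.stalkMap (f.base x)).hom).mapIso ((resCx (f.stalkMap x).hom).mapIso
      (stalkCxPullbackIso f P x))
  refine hasTorAmplitudeIn_of_iso (DerivedCategory.Q.mapIso e2).symm ?_
  exact hasTorAmplitudeIn_of_torVanF _ _ _ core

/-- **`Lf^*G ⊗^L F` has tor amplitude `[a + c, b + d]` relative to the composite** -/
theorem hasTorAmplitudeD_ltensor_lpull (f : X ⟶ Y) (g : Y ⟶ Z)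
    (F : CochainComplex X.Modules ℤ) (a b : ℤ) (hF : DerSch.HasTorAmplitude f a b F)
    (G : CochainComplex Y.Modules ℤ) (c d : ℤ) (hG : DerSch.HasTorAmplitude g c d G)
    [DCoh.HasLpull f] [DCoh.HasLTensorCx F] :
    DerSch.HasTorAmplitudeD (f ≫ g) (a + c) (b + d)
      ((DCoh.LTensorCx F).obj ((DCoh.Lpull f).obj (DCoh.toD Y G))) := by
  intro H ⟨eH⟩ x
  obtain ⟨P, p, hP1, hP2, hp, _⟩ : ∃ (P : CochainComplex Y.Modules ℤ) (p : P ⟶ G),
      DCoh.IsKFlat P ∧ (∀ n : ℤ, ModSite.IsFlat (O := Y.sheaf) (P.X n)) ∧ QuasiIso p ∧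
        ∀ n : ℤ, Epi (p.f n) := exists_isKFlat_resolution (O := Y.sheaf) G
  have hKFT : KFT P := ⟨hP1, hP2⟩
  haveI : QuasiIso p := hp
  let eP : DCoh.toD Y P ≅ DCoh.toD Y G := asIso (DerivedCategory.Q.map p)
  let fP := ((Scheme.Modules.pullback f).mapHomologicalComplex (ComplexShape.up ℤ)).obj P
  have hfP : DCoh.IsKFlat fP := isKFlat_pullback f P hP1
  let e1 : (DCoh.Lpull f).obj (DCoh.toD Y G) ≅ DCoh.toD X fP :=
    (DCoh.Lpull f).mapIso eP.symm ≪≫ lpullObjIso f P hKFT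
  let e2 : (DCoh.LTensorCx F).obj ((DCoh.Lpull f).obj (DCoh.toD Y G)) ≅
      DCoh.toD X ((DCoh.tensorCx.obj fP).obj F) :=
    (DCoh.LTensorCx F).mapIso e1 ≪≫ ltensorObjIsoOfKFlat F fP hfP
  have hPG : DerSch.HasTorAmplitudeAt g c d P (f.base x) :=
    hasTorAmplitudeAt_of_iso g (f.base x) eP.symm c d (hG (f.base x))
  have h1 := hasTorAmplitudeAt_pull_tensor f g x F a b (hF x) P hP1 c d hPG
  exact hasTorAmplitudeAt_of_iso (f ≫ g) x (e2.symm ≪≫ eH.symm) _ _ h1

/-- **`Lf^*G` has tor amplitude `[c - m, d]` relative to the composite** -/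
theorem hasTorAmplitudeD_lpull (f : X ⟶ Y) (g : Y ⟶ Z) (m : ℕ) (hf : DerSch.HasTorDimLE f m)
    (G : CochainComplex Y.Modules ℤ) (c d : ℤ) (hG : DerSch.HasTorAmplitude g c d G)
    [DCoh.HasLpull f] :
    DerSch.HasTorAmplitudeD (f ≫ g) (c - m) d ((DCoh.Lpull f).obj (DCoh.toD Y G)) := by
  intro H ⟨eH⟩ x
  obtain ⟨P, p, hP1, hP2, hp, _⟩ : ∃ (P : CochainComplex Y.Modules ℤ) (p : P ⟶ G),
      DCoh.IsKFlat P ∧ (∀ n : ℤ, ModSite.IsFlat (O := Y.sheaf) (P.X n)) ∧ QuasiIso p ∧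
        ∀ n : ℤ, Epi (p.f n) := exists_isKFlat_resolution (O := Y.sheaf) G
  have hKFT : KFT P := ⟨hP1, hP2⟩
  haveI : QuasiIso p := hp
  let eP : DCoh.toD Y P ≅ DCoh.toD Y G := asIso (DerivedCategory.Q.map p)
  let fP := ((Scheme.Modules.pullback f).mapHomologicalComplex (ComplexShape.up ℤ)).obj P
  let e1 : (DCoh.Lpull f).obj (DCoh.toD Y G) ≅ DCoh.toD X fP :=
    (DCoh.Lpull f).mapIso eP.symm ≪≫ lpullObjIso f P hKFT
  have hPG : DerSch.HasTorAmplitudeAt g c d P (f.base x) :=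
    hasTorAmplitudeAt_of_iso g (f.base x) eP.symm c d (hG (f.base x))
  have h1 := hasTorAmplitudeAt_pull f g x (-(m : ℤ)) 0 (hf x) P hP1 c d hPG
  have h2 := hasTorAmplitudeAt_of_iso (f ≫ g) x (e1.symm ≪≫ eH.symm) _ _ h1
  have e3 : c + -(m : ℤ) = c - m := by ring
  have e4 : d + 0 = d := by ring
  rw [e3, e4] at h2
  exact h2

end Groth.Agent.Lib.Helper5.DerSchTor
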