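import Mathlib
import Groth.Agent.Lib.Helper5.DerSchTor.StalkOverB
import Groth.Agent.Lib.Helper5.TensorAmp.TensorAmpF

/-!
# Stalkwise tor amplitude and restriction to opens (helper5)
-/
set_option autoImplicit false
set_option linter.unusedSectionVars false
set_option linter.unusedVariables false
set_option linter.style.haveILetI false
universe u
open CategoryTheory CategoryTheory.Limits MonoidalCategory AlgebraicGeometry
attribute [local instance] HasDerivedCategory.standard

namespace Groth.Agent.Lib.Helper5.DerSchTor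

open Groth.Agent.Lib.Helper5.StalkTot Groth.Agent.Lib.Helper5.StalkAdj
open Groth.Agent.Helper5.TorAmp Groth.Agent.Lib.Helper5.TensorAmp
open Groth.Agent.Lib.Helper5.KSixFlat Groth.Agent.Lib.Helper5.KFlatPull
open DTen

variable {X Y : Scheme.{u}}

/-- restriction to an open as a pullback, for complexes -/
noncomputable def restrictCxIsoPullback (U : X.Opens) (F : CochainComplex X.Modules ℤ) :
    (DCoh.restrictCx U).obj F ≅
      ((Scheme.Modules.pullback U.ι).mapHomologicalComplex (ComplexShape.up ℤ)).obj F :=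
  HomologicalComplex.Hom.isoOfComponents
    (fun i => (Scheme.Modules.restrictFunctorIsoPullback U.ι).app (F.X i))
    (fun i j _ =>
      ((Scheme.Modules.restrictFunctorIsoPullback U.ι).hom.naturality (F.d i j)).symm)

/-- the complex of stalks of a restriction to an open -/
noncomputable def stalkCxRestrictIso (U : X.Opens) (x' : (U : Scheme.{u}))
    (F : CochainComplex X.Modules ℤ) :
    stalkCx (U : Scheme.{u}) x' ((DCoh.restrictCx U).obj F) ≅
      (extCx (U.ι.stalkMap x').hom).obj (stalkCx X (U.ι.base x') F) :=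
  ((stalkSh (U : Scheme.{u}) x').mapHomologicalComplex (ComplexShape.up ℤ)).mapIso
      (restrictCxIsoPullback U F) ≪≫
    stalkCxPullbackIso U.ι F x'

/-- tor amplitude of the restriction to an open, relative to the composite -/
theorem hasTorAmplitudeAt_restrict (f : X ⟶ Y) (U : X.Opens) (x' : (U : Scheme.{u}))
    (F : CochainComplex X.Modules ℤ) (a b : ℤ)
    (hF : DerSch.HasTorAmplitudeAt f a b F (U.ι.base x')) :
    DerSch.HasTorAmplitudeAt (U.ι ≫ f) a b ((DCoh.restrictCx U).obj F) x' := by
  rw [hasTorAmplitudeAt_iff] at hF ⊢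
  have hbij : Function.Bijective (U.ι.stalkMap x').hom :=
    (ConcreteCategory.isIso_iff_bijective _).1 inferInstance
  haveI := isIso_unitCx_of_bijective (U.ι.stalkMap x').hom hbij (stalkCx X (U.ι.base x') F)
  have e1 : (resCx (U.ι.stalkMap x').hom).obj
      (stalkCx (U : Scheme.{u}) x' ((DCoh.restrictCx U).obj F)) ≅ stalkCx X (U.ι.base x') F :=
    (resCx (U.ι.stalkMap x').hom).mapIso (stalkCxRestrictIso U x' F) ≪≫
      (asIso ((unitCx (U.ι.stalkMap x').hom).app (stalkCx X (U.ι.base x') F))).symm
  have e2 := resCompIso U.ι f x' (stalkCx (U : Scheme.{u}) x' ((DCoh.restrictCx U).obj F)) ≪≫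
    (resCx (f.stalkMap (U.ι.base x')).hom).mapIso e1
  exact hasTorAmplitudeIn_of_iso (DerivedCategory.Q.mapIso e2).symm hF

/-- tor amplitude relative to `f' ≫ j` for an open immersion `j` gives tor amplitude relative
to `f'` -/
theorem hasTorAmplitudeAt_of_comp_openImmersion {U' V' : Scheme.{u}} (f' : U' ⟶ V') (j : V' ⟶ Y)
    [IsOpenImmersion j] (x : U') (K : CochainComplex U'.Modules ℤ) (a b : ℤ)
    (h : DerSch.HasTorAmplitudeAt (f' ≫ j) a b K x) : DerSch.HasTorAmplitudeAt f' a b K x := by
  rw [hasTorAmplitudeAt_iff] at h ⊢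
  have hbij : Function.Bijective (j.stalkMap (f'.base x)).hom :=
    (ConcreteCategory.isIso_iff_bijective _).1 inferInstance
  have h2 := hasTorAmplitudeIn_of_iso
    (DerivedCategory.Q.mapIso (resCompIso f' j x (stalkCx U' x K))) h
  exact hasTorAmplitudeIn_of_resCx_bijective (j.stalkMap (f'.base x)).hom hbij _ a b h2

/-- **tor amplitude relative to `f` restricts to tor amplitude relative to `f ∣_ V`** -/
theorem hasTorAmplitude_morphismRestrict (f : X ⟶ Y) (V : Y.Opens)
    (F : CochainComplex X.Modules ℤ) (a b : ℤ) (hF : DerSch.HasTorAmplitude f a b F) :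
    DerSch.HasTorAmplitude (f ∣_ V) a b ((DCoh.restrictCx (f ⁻¹ᵁ V)).obj F) := by
  intro x'
  have h1 := hasTorAmplitudeAt_restrict f (f ⁻¹ᵁ V) x' F a b (hF _)
  rw [← morphismRestrict_ι f V] at h1
  exact hasTorAmplitudeAt_of_comp_openImmersion (f ∣_ V) V.ι x' _ a b h1

end Groth.Agent.Lib.Helper5.DerSchTor
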