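import Mathlib
import Groth.Agent.Lib.Helper5.DerSchTor.Restrict
import Groth.Agent.Lib.Helper5.TensorAmp.TensorAmpD
import Groth.Agent.Lib.Helper5.RelPC.FlatTerms
import Groth.Agent.Lib.Helper5.Stalk.Exact

/-!
# Vanishing of the cohomology of `Lf^*M ⊗^L F` outside the tor amplitude of `F` (helper5)
-/
set_option autoImplicit false
set_option linter.unusedSectionVars false
set_option linter.unusedVariables false
set_option linter.style.haveILetI false
universe u
open CategoryTheory CategoryTheory.Limits MonoidalCategory AlgebraicGeometry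
attribute [local instance] HasDerivedCategory.standard

namespace Groth.Agent.Lib.Helper5.DerSchTor

open Groth.Agent.Lib.Helper5.StalkTot Groth.Agent.Lib.Helper5.StalkAdj
open Groth.Agent.Helper5.TorAmp Groth.Agent.Lib.Helper5.TensorAmp
open Groth.Agent.Lib.Helper5.KSixFlat Groth.Agent.Lib.Helper5.KFlatPull
open Groth.Agent.Lib.Helper5.KFlatStalk Groth.Agent.Lib.Helper5.LpullLib
open Groth.Agent.Lib.Helper5.KFlatSiteQ Groth.Agent.Lib.Helper5.LTenAll
open Groth.Agent.Lib.Helper5.KSixLT Groth.Agent.Lib.Helper5.FlatTerms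
open DTen _root_.Helper5.Gen

variable {X Y : Scheme.{u}}

/-- **the cohomology of `Lf^*M ⊗^L F` vanishes outside the tor amplitude of `F` relative to `f`** -/
theorem isZero_HD_ltensor_lpull_inD (f : X ⟶ Y) (F : CochainComplex X.Modules ℤ) (m n : ℤ)
    (hF : DerSch.HasTorAmplitude f m n F) (M : Y.Modules) [DCoh.HasLpull f] [DCoh.HasLTensorCx F]
    (i : ℤ) (hi : i < m ∨ n < i) :
    IsZero (DCoh.HD ((DCoh.LTensorCx F).obj ((DCoh.Lpull f).obj (DCoh.inD Y M))) i) := by
  let G : CochainComplex Y.Modules ℤ := (HomologicalComplex.single _ (ComplexShape.up ℤ) 0).obj M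
  obtain ⟨P, p, hP1, hP2, hp, _⟩ : ∃ (P : CochainComplex Y.Modules ℤ) (p : P ⟶ G),
      DCoh.IsKFlat P ∧ (∀ n : ℤ, ModSite.IsFlat (O := Y.sheaf) (P.X n)) ∧ QuasiIso p ∧
        ∀ n : ℤ, Epi (p.f n) := exists_isKFlat_resolution (O := Y.sheaf) G
  have hKFT : KFT P := ⟨hP1, hP2⟩
  haveI : QuasiIso p := hp
  let eP : DCoh.toD Y P ≅ DCoh.inD Y M := asIso (DerivedCategory.Q.map p) ≪≫ toDSingleIso M
  let fP := ((Scheme.Modules.pullback f).mapHomologicalComplex (ComplexShape.up ℤ)).obj P
  have hfP : DCoh.IsKFlat fP := isKFlat_pullback f P hP1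
  let e1 : (DCoh.Lpull f).obj (DCoh.inD Y M) ≅ DCoh.toD X fP :=
    (DCoh.Lpull f).mapIso eP.symm ≪≫ lpullObjIso f P hKFT
  let T := (DCoh.tensorCx.obj fP).obj F
  let e2 : (DCoh.LTensorCx F).obj ((DCoh.Lpull f).obj (DCoh.inD Y M)) ≅ DCoh.toD X T :=
    (DCoh.LTensorCx F).mapIso e1 ≪≫ ltensorObjIsoOfKFlat F fP hfP
  refine IsZero.of_iso ?_ ((DerivedCategory.homologyFunctor X.Modules i).mapIso e2)
  refine IsZero.of_iso ?_ ((DerivedCategory.homologyFunctorFactors X.Modules i).app T)
  refine (HomologicalComplex.exactAt_iff_isZero_homology T i).1 (exactAt_of_stalks T i (fun x => ?_))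
  have e3 : stalkCx X x T ≅
      (extCx (f.stalkMap x).hom).obj (stalkCx Y (f.base x) P) ⊗ stalkCx X x F :=
    stalkTotIso X x _ F ≪≫ whiskerRightIso (stalkCxPullbackIso f P x) (stalkCx X x F)
  refine HomologicalComplex.ExactAt.of_iso ?_ e3.symm
  apply exactAt_of_resCx (f.stalkMap x).hom
  refine HomologicalComplex.ExactAt.of_iso ?_
    (asIso (pf (f.stalkMap x).hom (stalkCx Y (f.base x) P) (stalkCx X x F)))
  rw [HomologicalComplex.exactAt_iff_isZero_homology]
  have hK : DRing.IsKFlat (Y.presheaf.stalk (f.base x)) (stalkCx Y (f.base x) P) :=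
    isKFlat_stalkCx P hP1 (f.base x)
  let q : stalkCx Y (f.base x) P ⟶ S ((stalkSh Y (f.base x)).obj M) :=
    ((stalkSh Y (f.base x)).mapHomologicalComplex (ComplexShape.up ℤ)).map p ≫
      ((HomologicalComplex.singleMapHomologicalComplex (stalkSh Y (f.base x))
        (ComplexShape.up ℤ) 0).app M).hom
  have hq : QuasiIso q := by
    dsimp only [q]
    infer_instance
  exact isZero_homology_tensor_of_hasTorAmplitudeIn _ m n
    ((hasTorAmplitudeAt_iff f x F m n).1 (hF x)) _ hK _ q hq i hi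

end Groth.Agent.Lib.Helper5.DerSchTor
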