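import Mathlib
import Groth.Agent.Lib.Helper5.DerSchTor.StalkOverA
import Groth.Agent.Lib.Helper5.TensorAmp.TensorAmpG
import Groth.Agent.Lib.Helper5.KSix.TildeAmp

/-!
# Stalkwise tor amplitude of `K^~` on `Spec A` relative to `Spec A → Spec R` (helper5)
-/
set_option autoImplicit false
set_option linter.unusedSectionVars false
set_option linter.unusedVariables false
set_option linter.style.haveILetI false
universe u
open CategoryTheory CategoryTheory.Limits MonoidalCategory AlgebraicGeometry
attribute [local instance] HasDerivedCategory.standard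

namespace Groth.Agent.Lib.Helper5.DerSchTor

open Groth.Agent.Lib.Helper5.StalkTot Groth.Agent.Lib.Helper5.StalkAdj
open Groth.Agent.Helper5.TorAmp Groth.Agent.Lib.Helper5.TensorAmp
open Groth.Agent.Lib.Helper5.TildeStalk Groth.Agent.Lib.Helper5.KSixTilde
open DTen

theorem phi_eq_toStalk (R : CommRingCat.{u}) (y : Spec (CommRingCat.of R)) :
    phi R y = (StructureSheaf.toStalk R y).hom := by
  ext r
  rfl

/-- the stalk of `Spec R` at `y` is the localization of `R` at `y` -/
theorem isLocalization_phi (R : CommRingCat.{u}) (y : Spec (CommRingCat.of R)) :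
    letI : Algebra R ((Spec (CommRingCat.of R)).presheaf.stalk y) := (phi R y).toAlgebra
    IsLocalization.AtPrime ((Spec (CommRingCat.of R)).presheaf.stalk y) y.asIdeal := by
  have h := StructureSheaf.IsLocalization.to_stalk R y
  have e : (phi R y).toAlgebra = StructureSheaf.stalkAlgebra (R := R) y := by
    unfold StructureSheaf.stalkAlgebra
    rw [phi_eq_toStalk]
    rfl
  rw [e]
  exact h

theorem flat_phi (R : CommRingCat.{u}) (y : Spec (CommRingCat.of R)) :
    letI : Algebra R ((Spec (CommRingCat.of R)).presheaf.stalk y) := (phi R y).toAlgebra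
    Module.Flat R ((Spec (CommRingCat.of R)).presheaf.stalk y) := by
  letI : Algebra R ((Spec (CommRingCat.of R)).presheaf.stalk y) := (phi R y).toAlgebra
  haveI := isLocalization_phi R y
  exact IsLocalization.flat _ y.asIdeal.primeCompl

theorem additive_tilde (R : CommRingCat.{u}) : (tilde.functor R).Additive := inferInstance

theorem preservesFiniteColimits_tilde (R : CommRingCat.{u}) :
    PreservesFiniteColimits (tilde.functor R) := inferInstance

variable {R A : Type u} [CommRing R] [CommRing A] (φ : R →+* A)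

/-- the stalk map of `Spec A → Spec R` is compatible with the maps from `R` and `A` -/
theorem phi_comm (x : Spec (CommRingCat.of A)) :
    (phi (CommRingCat.of A) x).comp φ =
      ((Spec.map (CommRingCat.ofHom φ)).stalkMap x).hom.comp
        (phi (CommRingCat.of R) ((Spec.map (CommRingCat.ofHom φ)).base x)) := by
  have h1 := Scheme.Hom.germ_stalkMap (Spec.map (CommRingCat.ofHom φ)) ⊤ x trivial
  have h2 := Scheme.ΓSpecIso_inv_naturality (CommRingCat.ofHom φ)
  ext r
  have h3 := congrArg (fun t => t.hom ((Scheme.ΓSpecIso (CommRingCat.of R)).inv.hom r)) h1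
  have h4 := congrArg (fun t => t.hom r) h2
  simp only [CommRingCat.hom_comp, RingHom.comp_apply] at h3 h4
  exact (h3.trans (congrArg _ h4.symm)).symm

variable [PreservesFiniteLimits (tilde.functor (CommRingCat.of A))]

/-- the restricted complex of stalks of `K^~` -/
noncomputable def resStalkTildeIso (K : DRing.Cx A) (x : Spec (CommRingCat.of A)) :
    (resCx ((Spec.map (CommRingCat.ofHom φ)).stalkMap x).hom).obj
        (stalkCx (Spec (CommRingCat.of A)) x
          (((tilde.functor (CommRingCat.of A)).mapHomologicalComplex (ComplexShape.up ℤ)).obj K)) ≅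
      (resCx ((Spec.map (CommRingCat.ofHom φ)).stalkMap x).hom).obj
        ((extCx (phi (CommRingCat.of A) x)).obj K) :=
  (resCx ((Spec.map (CommRingCat.ofHom φ)).stalkMap x).hom).mapIso
    (stalkCxTildeIso (CommRingCat.of A) x K)

/-- **stalkwise tor amplitude of `K^~` relative to `Spec A → Spec R`** -/
theorem hasTorAmplitude_tilde_iff (K : DRing.Cx A) (a b : ℤ) :
    DerSch.HasTorAmplitude (Spec.map (CommRingCat.ofHom φ)) a b
        (((tilde.functor (CommRingCat.of A)).mapHomologicalComplex (ComplexShape.up ℤ)).obj K) ↔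
      TorVanF a b ((resCx φ).obj K) := by
  constructor
  · intro h
    refine torVanF_of_family φ
      (fun x : Spec (CommRingCat.of A) => (Spec (CommRingCat.of R)).presheaf.stalk
        ((Spec.map (CommRingCat.ofHom φ)).base x))
      (fun x : Spec (CommRingCat.of A) => (Spec (CommRingCat.of A)).presheaf.stalk x)
      (fun x => phi (CommRingCat.of R) ((Spec.map (CommRingCat.ofHom φ)).base x))
      (fun x => phi (CommRingCat.of A) x)
      (fun x => ((Spec.map (CommRingCat.ofHom φ)).stalkMap x).hom)
      (fun x => phi_comm φ x)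
      (fun x => flat_phi (CommRingCat.of R) _)
      (fun x => flat_phi (CommRingCat.of A) x)
      (fun H hH => isZero_of_stalks_extend (CommRingCat.of A) H hH) K a b (fun x => ?_)
    have h1 := (hasTorAmplitudeAt_iff (Spec.map (CommRingCat.ofHom φ)) x _ a b).1 (h x)
    exact hasTorAmplitudeIn_of_iso (DerivedCategory.Q.mapIso (resStalkTildeIso φ K x)) h1
  · intro h x
    rw [hasTorAmplitudeAt_iff]
    refine hasTorAmplitudeIn_of_iso (DerivedCategory.Q.mapIso (resStalkTildeIso φ K x)).symm ?_
    apply hasTorAmplitudeIn_of_torVanF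
    exact torVanF_local_of_global φ
      (phi (CommRingCat.of R) ((Spec.map (CommRingCat.ofHom φ)).base x))
      (phi (CommRingCat.of A) x) ((Spec.map (CommRingCat.ofHom φ)).stalkMap x).hom
      (phi_comm φ x) (flat_phi (CommRingCat.of R) _) (flat_phi (CommRingCat.of A) x)
      (fun N' => isIso_counit_of_isLocalization _
        (((Spec.map (CommRingCat.ofHom φ)).base x).asIdeal.primeCompl)
        (isLocalization_phi (CommRingCat.of R) _) N') K a b h

/-- **S7259 in lib form** -/
theorem hasTorAmplitude_iff_of_tildeD (M : Dual.D A)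
    (F : CochainComplex (Spec (CommRingCat.of A)).Modules ℤ)
    (hF : Nonempty (DCoh.toD (Spec (CommRingCat.of A)) F ≅
      (DCoh.tildeD (CommRingCat.of A)).obj M)) (a b : ℤ) :
    DerSch.HasTorAmplitude (Spec.map (CommRingCat.ofHom φ)) a b F ↔
      DRing.HasTorAmplitudeIn R a b ((DRing.restrictD φ).obj M) := by
  haveI : (tilde.functor (CommRingCat.of A)).Additive := additive_tilde (CommRingCat.of A)
  haveI : PreservesFiniteColimits (tilde.functor (CommRingCat.of A)) :=
    preservesFiniteColimits_tilde (CommRingCat.of A)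
  obtain ⟨eF⟩ := hF
  obtain ⟨K, ⟨eK⟩⟩ : ∃ K : DRing.Cx A, Nonempty (DRing.toD K ≅ M) :=
    ⟨_, ⟨DerivedCategory.Q.objObjPreimageIso M⟩⟩
  let T := ((tilde.functor (CommRingCat.of A)).mapHomologicalComplex (ComplexShape.up ℤ)).obj K
  have e1 : DCoh.toD (Spec (CommRingCat.of A)) F ≅ DCoh.toD (Spec (CommRingCat.of A)) T :=
    eF ≪≫ (DCoh.tildeD (CommRingCat.of A)).mapIso eK.symm ≪≫
      (tilde.functor (CommRingCat.of A)).mapDerivedCategoryFactors.app K
  have e2 : (DRing.restrictD φ).obj M ≅ DRing.toD ((resCx φ).obj K) :=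
    (DRing.restrictD φ).mapIso eK.symm ≪≫ (resFactors φ).app K
  have h1 : DerSch.HasTorAmplitude (Spec.map (CommRingCat.ofHom φ)) a b F ↔
      DerSch.HasTorAmplitude (Spec.map (CommRingCat.ofHom φ)) a b T :=
    ⟨fun h x => hasTorAmplitudeAt_of_iso _ x e1 a b (h x),
      fun h x => hasTorAmplitudeAt_of_iso _ x e1.symm a b (h x)⟩
  rw [h1, hasTorAmplitude_tilde_iff φ K a b, ← hasTorAmplitudeIn_iff_torVanF]
  exact ⟨fun h => hasTorAmplitudeIn_of_iso e2.symm h, fun h => hasTorAmplitudeIn_of_iso e2 h⟩

end Groth.Agent.Lib.Helper5.DerSchTor
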